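import Mathlib
import Groth.Prelude.Def_ProEtW
import Groth.Agent.S0701
import Groth.Agent.Lib.Helper9.FE.WStr2

/-!
# Quasi-finite algebras over rings with extremally disconnected Hausdorff spectrum (helper6)

If `Spec A` is Hausdorff and extremally disconnected with separably closed residue fields and
`B` is quasi-finite of finite presentation over `A`, then `Spec B` is extremally disconnected:
locally on `Spec B` the map to `Spec A` is a homeomorphism onto an open-closed subset.
-/

set_option autoImplicit false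
set_option linter.unusedSectionVars false
set_option linter.unusedVariables false
set_option linter.unusedSimpArgs false
set_option linter.style.haveILetI false
set_option maxHeartbeats 800000
set_option synthInstance.maxHeartbeats 400000

universe u

open TensorProduct PrimeSpectrum Topology

namespace Groth.Agent.Lib.Helper6.ExtrDisc

section Top

theorem isSepClosed_of_ringEquiv {k K : Type*} [Field k] [Field K] (e : k ≃+* K) [IsSepClosed k] :
    IsSepClosed K := by
  refine ⟨fun f hf => ?_⟩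
  have h1 : (f.map (e.symm : K →+* k)).Separable := hf.map
  have h2 := IsSepClosed.splits_of_separable _ h1
  have h3 := h2.map (e : k →+* K)
  rw [Polynomial.map_map] at h3
  have h4 : ((e : k →+* K).comp (e.symm : K →+* k)) = RingHom.id K := by
    ext x; simp
  rwa [h4, Polynomial.map_id] at h3

theorem isClopen_of_isConstructible {X : Type*} [TopologicalSpace X] [CompactSpace X] [T2Space X]
    {s : Set X} (hs : IsConstructible s) : IsClopen s := by
  induction hs using IsConstructible.empty_union_induction with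
  | open_retrocompact U hU hc => exact ⟨hc.isCompact.isClosed, hU⟩
  | union s hs t ht h1 h2 => exact h1.union h2
  | compl s hs h => exact h.compl

/-- A compact space which maps locally injectively, with open images, to an extremally
disconnected Hausdorff space is extremally disconnected. -/
theorem extremallyDisconnected_of_local_inj {X Y : Type*} [TopologicalSpace X]
    [TopologicalSpace Y] [CompactSpace X] [T2Space Y] [ExtremallyDisconnected Y] (φ : X → Y)
    (hφ : Continuous φ)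
    (h : ∀ x : X, ∃ U : Set X, IsClopen U ∧ x ∈ U ∧ Set.InjOn φ U ∧ IsOpen (φ '' U)) :
    ExtremallyDisconnected X := by
  refine ⟨fun W hW => ?_⟩
  rw [isOpen_iff_forall_mem_open]
  intro x hx
  obtain ⟨U, hU, hxU, hinj, hV⟩ := h x
  have hW'sub : W ∩ U ⊆ U := Set.inter_subset_right
  have himg : φ '' (W ∩ U) = φ '' U \ φ '' (U \ W) := by
    have h1 : W ∩ U = U \ (U \ W) := by
      ext y
      simp only [Set.mem_inter_iff, Set.mem_sdiff, not_and, not_not]
      tauto
    rw [h1, hinj.image_sdiff]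
    congr 1
    congr 1
    ext y
    simp only [Set.mem_inter_iff, Set.mem_sdiff]
    tauto
  have hclosed : IsClosed (φ '' (U \ W)) :=
    ((hU.isClosed.sdiff hW).isCompact.image hφ).isClosed
  have himgopen : IsOpen (φ '' (W ∩ U)) := by
    rw [himg]
    exact hV.sdiff hclosed
  have hcl : IsOpen (closure (φ '' (W ∩ U))) := ExtremallyDisconnected.open_closure _ himgopen
  have hsub : closure (φ '' (W ∩ U)) ⊆ φ '' closure (W ∩ U) :=
    closure_minimal (Set.image_mono subset_closure)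
      ((isClosed_closure.isCompact.image hφ).isClosed)
  have hclU : closure (W ∩ U) ⊆ U := closure_minimal hW'sub hU.isClosed
  refine ⟨U ∩ φ ⁻¹' closure (φ '' (W ∩ U)), ?_, hU.isOpen.inter (hcl.preimage hφ), ⟨hxU, ?_⟩⟩
  · rintro y ⟨hyU, hy⟩
    obtain ⟨z, hz, hzy⟩ := hsub hy
    have hzy' : z = y := hinj (hclU hz) hyU hzy
    rw [← hzy']
    exact closure_mono Set.inter_subset_left hz
  · have hx' : x ∈ closure (W ∩ U) := by
      have h2 := hU.isOpen.inter_closure (t := W) ⟨hxU, hx⟩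
      rwa [Set.inter_comm] at h2
    exact image_closure_subset_closure_image hφ ⟨x, hx', rfl⟩

end Top

section Alg

variable (A B : Type u) [CommRing A] [CommRing B] [Algebra A B]

theorem all_maximal_of_quasiFinite [Algebra.QuasiFinite A B]
    (hA : ∀ p : PrimeSpectrum A, p.asIdeal.IsMaximal) (q : PrimeSpectrum B) :
    q.asIdeal.IsMaximal := by
  obtain ⟨m, hm, hqm⟩ := Ideal.exists_le_maximal q.asIdeal q.2.ne_top
  haveI := hm.isPrime
  have hle : q.asIdeal.comap (algebraMap A B) ≤ m.comap (algebraMap A B) := Ideal.comap_mono hqm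
  have hmax : (q.asIdeal.comap (algebraMap A B)).IsMaximal := hA (comap (algebraMap A B) q)
  have heq : q.asIdeal.comap (algebraMap A B) = m.comap (algebraMap A B) :=
    hmax.eq_of_le (Ideal.comap_ne_top _ hm.ne_top) hle
  have h3 : q.asIdeal = m :=
    Algebra.QuasiFinite.eq_of_le_of_under_eq (R := A) q.asIdeal m hqm heq
  rw [h3]
  exact hm

theorem t2_of_all_maximal (hB : ∀ q : PrimeSpectrum B, q.asIdeal.IsMaximal) :
    T2Space (PrimeSpectrum B) :=
  (Groth.Agent.S0701.H0701.profinite_of_all_maximal B hB).2.1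

theorem isClopen_diag [Algebra.FiniteType A B] [T2Space (PrimeSpectrum (B ⊗[A] B))] :
    IsClopen (zeroLocus (KaehlerDifferential.ideal A B : Set (B ⊗[A] B))) := by
  refine ⟨isClosed_zeroLocus _, ?_⟩
  have h1 : IsCompact (zeroLocus (KaehlerDifferential.ideal A B : Set (B ⊗[A] B)))ᶜ :=
    (isRetrocompact_zeroLocus_compl_of_fg (KaehlerDifferential.ideal_fg A B)).isCompact
  have h2 := h1.isClosed
  rwa [isClosed_compl_iff] at h2

theorem comap_eq_of_mem_diag (r : PrimeSpectrum (B ⊗[A] B))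
    (hr : r ∈ zeroLocus (KaehlerDifferential.ideal A B : Set (B ⊗[A] B))) :
    comap (Algebra.TensorProduct.includeLeftRingHom : B →+* B ⊗[A] B) r =
      comap (Algebra.TensorProduct.includeRight (R := A) (A := B) (B := B)).toRingHom r := by
  rw [mem_zeroLocus] at hr
  apply PrimeSpectrum.ext
  ext b
  have hd : (1 : B) ⊗ₜ[A] b - b ⊗ₜ[A] (1 : B) ∈ r.asIdeal :=
    hr (KaehlerDifferential.one_smul_sub_smul_one_mem_ideal A b)
  show b ⊗ₜ[A] (1 : B) ∈ r.asIdeal ↔ (1 : B) ⊗ₜ[A] b ∈ r.asIdeal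
  constructor
  · intro h
    exact (Submodule.sub_mem_iff_left _ h).mp hd
  · intro h
    exact (Submodule.sub_mem_iff_right _ h).mp hd

theorem mem_diag_of_comap_eq [Algebra.QuasiFinite A B]
    (hA : ∀ p : PrimeSpectrum A, p.asIdeal.IsMaximal)
    (hres : ∀ p : PrimeSpectrum A, IsSepClosed p.asIdeal.ResidueField)
    (r : PrimeSpectrum (B ⊗[A] B))
    (heq : comap (Algebra.TensorProduct.includeLeftRingHom : B →+* B ⊗[A] B) r =
      comap (Algebra.TensorProduct.includeRight (R := A) (A := B) (B := B)).toRingHom r) :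
    r ∈ zeroLocus (KaehlerDifferential.ideal A B : Set (B ⊗[A] B)) := by
  obtain ⟨q, hq⟩ : ∃ q : PrimeSpectrum B,
      q = comap (Algebra.TensorProduct.includeLeftRingHom : B →+* B ⊗[A] B) r := ⟨_, rfl⟩
  obtain ⟨p, hp⟩ : ∃ p : PrimeSpectrum A, p = comap (algebraMap A B) q := ⟨_, rfl⟩
  haveI hpmax : p.asIdeal.IsMaximal := hA p
  haveI hqmax : q.asIdeal.IsMaximal := all_maximal_of_quasiFinite A B hA q
  haveI hlies : q.asIdeal.LiesOver p.asIdeal := ⟨by rw [hp]; rfl⟩
  letI fA : Field (A ⧸ p.asIdeal) := Ideal.Quotient.field _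
  letI fB : Field (B ⧸ q.asIdeal) := Ideal.Quotient.field _
  haveI : IsSepClosed (A ⧸ p.asIdeal) := by
    haveI := hres p
    exact isSepClosed_of_ringEquiv
      (RingEquiv.ofBijective (algebraMap (A ⧸ p.asIdeal) p.asIdeal.ResidueField)
        (Ideal.bijective_algebraMap_quotient_residueField p.asIdeal)).symm
  haveI : Algebra.QuasiFinite (A ⧸ p.asIdeal) (B ⧸ q.asIdeal) :=
    Algebra.QuasiFinite.of_restrictScalars A (A ⧸ p.asIdeal) (B ⧸ q.asIdeal)
  haveI : Module.Finite (A ⧸ p.asIdeal) (B ⧸ q.asIdeal) := Module.Finite.of_quasiFinite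
  haveI : Algebra.IsAlgebraic (A ⧸ p.asIdeal) (B ⧸ q.asIdeal) := inferInstance
  haveI : IsPurelyInseparable (A ⧸ p.asIdeal) (B ⧸ q.asIdeal) := inferInstance
  haveI := r.2
  obtain ⟨f₁, hf₁⟩ : ∃ f₁ : (B ⧸ q.asIdeal) →+* ((B ⊗[A] B) ⧸ r.asIdeal),
      ∀ b : B, f₁ (Ideal.Quotient.mk _ b) = Ideal.Quotient.mk _ (b ⊗ₜ[A] (1 : B)) :=
    ⟨Ideal.Quotient.lift q.asIdeal ((Ideal.Quotient.mk r.asIdeal).comp
      (Algebra.TensorProduct.includeLeftRingHom : B →+* B ⊗[A] B)) (fun b hb => by
        have hb' : b ∈ (comap (Algebra.TensorProduct.includeLeftRingHom : B →+* B ⊗[A] B)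
            r).asIdeal := by rw [← hq]; exact hb
        exact Ideal.Quotient.eq_zero_iff_mem.mpr hb'), fun b => rfl⟩
  obtain ⟨f₂, hf₂⟩ : ∃ f₂ : (B ⧸ q.asIdeal) →+* ((B ⊗[A] B) ⧸ r.asIdeal),
      ∀ b : B, f₂ (Ideal.Quotient.mk _ b) = Ideal.Quotient.mk _ ((1 : B) ⊗ₜ[A] b) :=
    ⟨Ideal.Quotient.lift q.asIdeal ((Ideal.Quotient.mk r.asIdeal).comp
      (Algebra.TensorProduct.includeRight (R := A) (A := B) (B := B)).toRingHom) (fun b hb => by
        have hb' : b ∈ (comap (Algebra.TensorProduct.includeRight (R := A) (A := B)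
            (B := B)).toRingHom r).asIdeal := by rw [← heq, ← hq]; exact hb
        exact Ideal.Quotient.eq_zero_iff_mem.mpr hb'), fun b => rfl⟩
  have hagree : f₁.comp (algebraMap (A ⧸ p.asIdeal) (B ⧸ q.asIdeal)) =
      f₂.comp (algebraMap (A ⧸ p.asIdeal) (B ⧸ q.asIdeal)) := by
    apply Ideal.Quotient.ringHom_ext
    ext a
    show f₁ (Ideal.Quotient.mk _ (algebraMap A B a)) = f₂ (Ideal.Quotient.mk _ (algebraMap A B a))
    rw [hf₁, hf₂]
    congr 1
    rw [Algebra.algebraMap_eq_smul_one, TensorProduct.smul_tmul]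
  have hf : f₁ = f₂ :=
    IsPurelyInseparable.injective_comp_algebraMap (A ⧸ p.asIdeal) (B ⧸ q.asIdeal)
      ((B ⊗[A] B) ⧸ r.asIdeal) hagree
  rw [mem_zeroLocus, SetLike.coe_subset_coe, ← KaehlerDifferential.span_range_eq_ideal,
    Ideal.span_le]
  rintro _ ⟨b, rfl⟩
  have h3 : Ideal.Quotient.mk r.asIdeal (b ⊗ₜ[A] (1 : B)) =
      Ideal.Quotient.mk r.asIdeal ((1 : B) ⊗ₜ[A] b) := by
    rw [← hf₁, ← hf₂, hf]
  have h4 := r.asIdeal.neg_mem (Ideal.Quotient.eq.mp h3)
  rw [neg_sub] at h4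
  exact h4

theorem exists_basicOpen_injOn [Algebra.QuasiFinite A B] [Algebra.FiniteType A B]
    (hA : ∀ p : PrimeSpectrum A, p.asIdeal.IsMaximal)
    (hres : ∀ p : PrimeSpectrum A, IsSepClosed p.asIdeal.ResidueField) (q : PrimeSpectrum B) :
    ∃ f : B, q ∈ (basicOpen f : Set (PrimeSpectrum B)) ∧
      Set.InjOn (comap (algebraMap A B)) (basicOpen f : Set (PrimeSpectrum B)) := by
  have hB : ∀ q : PrimeSpectrum B, q.asIdeal.IsMaximal := all_maximal_of_quasiFinite A B hA
  haveI : T2Space (PrimeSpectrum B) := t2_of_all_maximal B hB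
  haveI : Algebra.QuasiFinite B (B ⊗[A] B) := inferInstance
  have hP : ∀ r : PrimeSpectrum (B ⊗[A] B), r.asIdeal.IsMaximal :=
    all_maximal_of_quasiFinite B (B ⊗[A] B) hB
  haveI : T2Space (PrimeSpectrum (B ⊗[A] B)) := t2_of_all_maximal _ hP
  obtain ⟨π, hπ⟩ : ∃ π : PrimeSpectrum (B ⊗[A] B) → PrimeSpectrum B × PrimeSpectrum B,
      π = fun r => (comap (Algebra.TensorProduct.includeLeftRingHom : B →+* B ⊗[A] B) r,
        comap (Algebra.TensorProduct.includeRight (R := A) (A := B) (B := B)).toRingHom r) :=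
    ⟨_, rfl⟩
  have hπc : Continuous π := by
    rw [hπ]
    exact (continuous_comap _).prodMk (continuous_comap _)
  have hΔ := isClopen_diag A B
  obtain ⟨Δ, hΔdef⟩ : ∃ Δ : Set (PrimeSpectrum (B ⊗[A] B)),
      Δ = zeroLocus (KaehlerDifferential.ideal A B : Set (B ⊗[A] B)) := ⟨_, rfl⟩
  rw [← hΔdef] at hΔ
  have hK : IsClosed (π '' Δᶜ) := (hΔ.compl.isClosed.isCompact.image hπc).isClosed
  have hqK : (q, q) ∈ (π '' Δᶜ)ᶜ := by
    rintro ⟨r, hr, hrq⟩
    apply hr
    rw [hΔdef]
    apply mem_diag_of_comap_eq A B hA hres r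
    rw [hπ] at hrq
    have h1 := congrArg Prod.fst hrq
    have h2 := congrArg Prod.snd hrq
    exact h1.trans h2.symm
  obtain ⟨u, v, hu, hv, hqu, hqv, huv⟩ := isOpen_prod_iff.mp hK.isOpen_compl q q hqK
  obtain ⟨t, ⟨f, rfl⟩, hqt, htuv⟩ := isTopologicalBasis_basic_opens.exists_subset_of_mem_open
    (show q ∈ u ∩ v from ⟨hqu, hqv⟩) (hu.inter hv)
  refine ⟨f, hqt, ?_⟩
  intro q₁ hq₁ q₂ hq₂ h12
  by_contra hne
  obtain ⟨Q, hQ1, hQ2⟩ := H9FE.WStr.exists_prime_tensor A B B q₁ q₂ h12
  have hQΔ : Q ∈ Δᶜ := by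
    intro hQ
    rw [hΔdef] at hQ
    have h5 := comap_eq_of_mem_diag A B Q hQ
    exact hne (hQ1.symm.trans (h5.trans hQ2))
  have hmem : (q₁, q₂) ∈ π '' Δᶜ := ⟨Q, hQΔ, by rw [hπ]; exact Prod.ext hQ1 hQ2⟩
  exact huv (Set.mk_mem_prod (htuv hq₁).1 (htuv hq₂).2) hmem

theorem main [Algebra.QuasiFinite A B] [Algebra.FinitePresentation A B]
    (hres : ∀ p : PrimeSpectrum A, IsSepClosed p.asIdeal.ResidueField)
    [T2Space (PrimeSpectrum A)] [ExtremallyDisconnected (PrimeSpectrum A)] :
    ExtremallyDisconnected (PrimeSpectrum B) := by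
  have hA : ∀ p : PrimeSpectrum A, p.asIdeal.IsMaximal :=
    fun p => Groth.Agent.S0701.H0701.all_maximal_of_t1 A p
  have hB := all_maximal_of_quasiFinite A B hA
  haveI : T2Space (PrimeSpectrum B) := t2_of_all_maximal B hB
  apply extremallyDisconnected_of_local_inj (comap (algebraMap A B)) (continuous_comap _)
  intro q
  obtain ⟨f, hqf, hinj⟩ := exists_basicOpen_injOn A B hA hres q
  refine ⟨(basicOpen f : Set _), ⟨(isCompact_basicOpen f).isClosed, (basicOpen f).isOpen⟩,
    hqf, hinj, ?_⟩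
  exact (isClopen_of_isConstructible (isConstructible_comap_image
    (RingHom.finitePresentation_algebraMap.mpr inferInstance) isConstructible_basicOpen)).isOpen

end Alg

end Groth.Agent.Lib.Helper6.ExtrDisc
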