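import Mathlib
import Groth.Prelude.Def_PBC
import Groth.Prelude.Def_ProEtW
import Groth.Prelude.Def_EtBase
import Groth.Agent.Lib.Helper9.FE.WStr6
import Groth.Agent.Lib.Helper6.ExtrDisc.ED1
import Groth.Agent.Lib.Helper7.Hensel.IntegralDomain
import Groth.Agent.Lib.Helper7.HensQFLoc
import Groth.Agent.Lib.Helper2.Ring.StrictHensTransfer

/-!
# Finite algebras of finite presentation over w-contractible rings (helper6)
-/

set_option autoImplicit false
set_option linter.unusedSectionVars false
set_option linter.unusedVariables false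
set_option linter.unusedSimpArgs false
set_option linter.style.haveILetI false
set_option maxHeartbeats 800000
set_option synthInstance.maxHeartbeats 400000

universe u

open TensorProduct PrimeSpectrum Topology

namespace Groth.Agent.Lib.Helper6.ExtrDisc

section Quot

theorem comap_map_mk {R : Type*} [CommRing R] (I J : Ideal R) (hIJ : I ≤ J) :
    (J.map (Ideal.Quotient.mk I)).comap (Ideal.Quotient.mk I) = J := by
  rw [Ideal.comap_map_of_surjective _ Ideal.Quotient.mk_surjective, ← RingHom.ker_eq_comap_bot,
    Ideal.mk_ker, sup_eq_left.mpr hIJ]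

theorem map_mk_isMaximal {R : Type*} [CommRing R] (I J : Ideal R) (hIJ : I ≤ J)
    [hJ : J.IsMaximal] : (J.map (Ideal.Quotient.mk I)).IsMaximal := by
  have hc := comap_map_mk I J hIJ
  rcases Ideal.map_eq_top_or_isMaximal_of_surjective (Ideal.Quotient.mk I) Ideal.Quotient.mk_surjective hJ with h | h
  · exfalso
    rw [h, Ideal.comap_top] at hc
    exact hJ.ne_top hc.symm
  · exact h

/-- If a prime `p` lies in exactly one maximal ideal `m` and `A_m` is henselian, then `A ⧸ p`
is a henselian local ring. -/
theorem henselian_quotient_of_unique (A : Type u) [CommRing A] (p m : Ideal A) [p.IsPrime]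
    [hm : m.IsMaximal] (hpm : p ≤ m) (huniq : ∀ n : Ideal A, n.IsMaximal → p ≤ n → n = m)
    [HenselianLocalRing (Localization.AtPrime m)] : HenselianLocalRing (A ⧸ p) := by
  have key : ∀ N : Ideal (A ⧸ p), N.IsMaximal → N = m.map (Ideal.Quotient.mk p) := by
    intro N hN
    haveI := hN
    have h1 : (N.comap (Ideal.Quotient.mk p)).IsMaximal :=
      Ideal.comap_isMaximal_of_surjective _ Ideal.Quotient.mk_surjective
    have h2 : p ≤ N.comap (Ideal.Quotient.mk p) := by
      intro a ha
      show Ideal.Quotient.mk p a ∈ N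
      rw [Ideal.Quotient.eq_zero_iff_mem.mpr ha]
      exact N.zero_mem
    rw [← huniq _ h1 h2, Ideal.map_comap_of_surjective _ Ideal.Quotient.mk_surjective]
  obtain ⟨M, hM⟩ := Ideal.exists_maximal (A ⧸ p)
  haveI : IsLocalRing (A ⧸ p) :=
    IsLocalRing.of_unique_max_ideal
      ⟨M, hM, fun M' hM' => (key M' hM').trans (key M hM).symm⟩
  have hunit : ∀ s : m.primeCompl, IsUnit (Ideal.Quotient.mk p (s : A)) := by
    intro s
    by_contra hns
    obtain ⟨N, hN, hsN⟩ := exists_max_ideal_of_mem_nonunits hns
    rw [key N hN] at hsN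
    have h3 : (s : A) ∈ (m.map (Ideal.Quotient.mk p)).comap (Ideal.Quotient.mk p) := hsN
    rw [comap_map_mk p m hpm] at h3
    exact s.2 h3
  letI algQ : Algebra (Localization.AtPrime m) (A ⧸ p) :=
    (IsLocalization.lift (M := m.primeCompl) (S := Localization.AtPrime m)
      (g := Ideal.Quotient.mk p) hunit).toAlgebra
  haveI : Algebra.IsIntegral (Localization.AtPrime m) (A ⧸ p) := by
    apply Algebra.isIntegral_of_surjective
    intro z
    obtain ⟨a, rfl⟩ := Ideal.Quotient.mk_surjective z
    exact ⟨algebraMap A (Localization.AtPrime m) a, IsLocalization.lift_eq hunit a⟩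
  exact Groth.Agent.Helper7.Hensel.henselianLocalRing_of_isIntegral_of_isLocalRing
    (Localization.AtPrime m) (A ⧸ p)

end Quot

section WLocal

variable (A B : Type u) [CommRing A] [CommRing B] [Algebra A B]

theorem isWLocal_of_integral [Algebra.IsIntegral A B]
    (hW : ProEtW.IsWLocal (PrimeSpectrum A))
    (hH : ∀ (m : Ideal A) [m.IsMaximal], HenselianLocalRing (Localization.AtPrime m)) :
    ProEtW.IsWLocal (PrimeSpectrum B) := by
  have hclosed_iff : ∀ x : PrimeSpectrum B, IsClosed ({x} : Set (PrimeSpectrum B)) ↔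
      IsClosed ({comap (algebraMap A B) x} : Set (PrimeSpectrum A)) := by
    intro x
    rw [isClosed_singleton_iff_isMaximal, isClosed_singleton_iff_isMaximal]
    constructor
    · intro h
      haveI := h
      exact Ideal.isMaximal_comap_of_isIntegral_of_isMaximal (R := A) x.asIdeal
    · intro h
      exact Ideal.isMaximal_of_isIntegral_of_isMaximal_comap x.asIdeal h
  refine ⟨inferInstance, ?_, ?_⟩
  · have h1 : {x : PrimeSpectrum B | IsClosed ({x} : Set (PrimeSpectrum B))} =
        comap (algebraMap A B) ⁻¹' {y | IsClosed ({y} : Set (PrimeSpectrum A))} := by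
      ext x
      exact hclosed_iff x
    rw [h1]
    exact hW.2.1.preimage (continuous_comap _)
  · intro x
    obtain ⟨n, hn, hxn⟩ := Ideal.exists_le_maximal x.asIdeal x.2.ne_top
    haveI := hn
    refine ⟨⟨n, hn.isPrime⟩, ⟨(isClosed_singleton_iff_isMaximal _).mpr hn,
      (le_iff_specializes _ _).mp hxn⟩, ?_⟩
    rintro y ⟨hyc, hxy⟩
    haveI hymax : y.asIdeal.IsMaximal := (isClosed_singleton_iff_isMaximal _).mp hyc
    have hxy' : x.asIdeal ≤ y.asIdeal := (le_iff_specializes _ _).mpr hxy
    obtain ⟨p, hp⟩ : ∃ p : Ideal A, p = x.asIdeal.comap (algebraMap A B) := ⟨_, rfl⟩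
    haveI hpp : p.IsPrime := by rw [hp]; infer_instance
    obtain ⟨m, hm⟩ : ∃ m : Ideal A, m = n.comap (algebraMap A B) := ⟨_, rfl⟩
    haveI hmmax : m.IsMaximal := by
      rw [hm]
      exact Ideal.isMaximal_comap_of_isIntegral_of_isMaximal (R := A) n
    have hpm : p ≤ m := by rw [hp, hm]; exact Ideal.comap_mono hxn
    have huniq : ∀ n' : Ideal A, n'.IsMaximal → p ≤ n' → n' = m := by
      intro n' hn' hpn'
      have hu := hW.2.2 (comap (algebraMap A B) x)
      have hpn2 : (comap (algebraMap A B) x).asIdeal ≤ n' := by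
        have h5 := hpn'
        rw [hp] at h5
        exact h5
      have hpm2 : (comap (algebraMap A B) x).asIdeal ≤ m := by
        have h5 := hpm
        rw [hp] at h5
        exact h5
      have e1 : (⟨n', hn'.isPrime⟩ : PrimeSpectrum A) = ⟨m, hmmax.isPrime⟩ :=
        hu.unique
          ⟨(isClosed_singleton_iff_isMaximal _).mpr hn', (le_iff_specializes _ _).mp hpn2⟩
          ⟨(isClosed_singleton_iff_isMaximal _).mpr hmmax, (le_iff_specializes _ _).mp hpm2⟩
      exact congrArg PrimeSpectrum.asIdeal e1
    haveI := hH m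
    haveI hHq : HenselianLocalRing (A ⧸ p) := henselian_quotient_of_unique A p m hpm huniq
    haveI hlies : x.asIdeal.LiesOver p := ⟨hp⟩
    haveI : IsDomain (B ⧸ x.asIdeal) := Ideal.Quotient.isDomain _
    haveI : Algebra.IsIntegral (A ⧸ p) (B ⧸ x.asIdeal) := Algebra.IsIntegral.tower_top A
    haveI h₁ : (y.asIdeal.map (Ideal.Quotient.mk x.asIdeal)).IsMaximal :=
      map_mk_isMaximal x.asIdeal y.asIdeal hxy'
    haveI h₂ : (n.map (Ideal.Quotient.mk x.asIdeal)).IsMaximal :=
      map_mk_isMaximal x.asIdeal n hxn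
    have hM := Groth.Agent.Helper7.Hensel.maximal_eq_of_isIntegral_domain (A ⧸ p)
      (B ⧸ x.asIdeal) (y.asIdeal.map (Ideal.Quotient.mk x.asIdeal))
      (n.map (Ideal.Quotient.mk x.asIdeal))
    apply PrimeSpectrum.ext
    show y.asIdeal = n
    rw [← comap_map_mk x.asIdeal y.asIdeal hxy', hM, comap_map_mk x.asIdeal n hxn]

end WLocal

section SH

variable (A B : Type u) [CommRing A] [CommRing B] [Algebra A B]

attribute [local instance] Algebra.TensorProduct.rightAlgebra in
theorem strictlyHenselian_of_finite [Module.Finite A B]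
    (hSH : ∀ (m : Ideal A) [m.IsMaximal],
      EtCoh.IsStrictlyHenselianLocalRing (Localization.AtPrime m))
    (n : Ideal B) [hn : n.IsMaximal] :
    EtCoh.IsStrictlyHenselianLocalRing (Localization.AtPrime n) := by
  obtain ⟨m, hm⟩ : ∃ m : Ideal A, m = n.comap (algebraMap A B) := ⟨_, rfl⟩
  haveI hmmax : m.IsMaximal := by
    rw [hm]
    exact Ideal.isMaximal_comap_of_isIntegral_of_isMaximal (R := A) n
  obtain ⟨hHens, hSep⟩ := hSH m
  haveI := hHens
  haveI := hSep
  obtain ⟨Q, hQ1, hQ2⟩ := H9FE.WStr.exists_prime_tensor A (Localization.AtPrime m) B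
    ⟨IsLocalRing.maximalIdeal (Localization.AtPrime m), inferInstance⟩ ⟨n, hn.isPrime⟩ (by
      apply PrimeSpectrum.ext
      show (IsLocalRing.maximalIdeal (Localization.AtPrime m)).comap (algebraMap A _) =
        n.comap (algebraMap A B)
      rw [← hm]
      exact IsLocalization.AtPrime.under_maximalIdeal (Localization.AtPrime m) m)
  haveI hQp : Q.asIdeal.IsPrime := Q.2
  have hlies : Q.asIdeal.LiesOver (IsLocalRing.maximalIdeal (Localization.AtPrime m)) :=
    ⟨(congrArg PrimeSpectrum.asIdeal hQ1).symm⟩
  have hqf : Algebra.QuasiFiniteAt (Localization.AtPrime m) Q.asIdeal := inferInstance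
  haveI hfin : Module.Finite (Localization.AtPrime m) (Localization.AtPrime Q.asIdeal) :=
    Groth.Agent.Helper7.HensQFLoc.finite_localization_of_henselian (Localization.AtPrime m)
      (Localization.AtPrime m ⊗[A] B) Q.asIdeal hlies hqf
  haveI : Algebra.IsIntegral (Localization.AtPrime m) (Localization.AtPrime Q.asIdeal) :=
    inferInstance
  haveI hHq : HenselianLocalRing (Localization.AtPrime Q.asIdeal) :=
    Groth.Agent.Helper7.Hensel.henselianLocalRing_of_isIntegral_of_isLocalRing
      (Localization.AtPrime m) (Localization.AtPrime Q.asIdeal)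
  haveI : IsLocalHom (algebraMap (Localization.AtPrime m) (Localization.AtPrime Q.asIdeal)) :=
    Groth.Agent.Helper7.Hensel.isLocalHom_of_isIntegral
  haveI : Module.Finite (IsLocalRing.ResidueField (Localization.AtPrime m))
      (IsLocalRing.ResidueField (Localization.AtPrime Q.asIdeal)) :=
    IsLocalRing.ResidueField.finite_of_module_finite
  haveI : IsSepClosed (IsLocalRing.ResidueField (Localization.AtPrime Q.asIdeal)) :=
    Algebra.IsAlgebraic.isSepClosed (F := IsLocalRing.ResidueField (Localization.AtPrime m))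
  have hT : EtCoh.IsStrictlyHenselianLocalRing (Localization.AtPrime Q.asIdeal) :=
    ⟨hHq, inferInstance⟩
  haveI : IsLocalization (Algebra.algebraMapSubmonoid B m.primeCompl)
      (Localization.AtPrime m ⊗[A] B) :=
    IsLocalization.tensorRight (Localization.AtPrime m) m.primeCompl
  have hloc : IsLocalization.AtPrime (Localization.AtPrime Q.asIdeal)
      (Q.asIdeal.comap (algebraMap B (Localization.AtPrime m ⊗[A] B))) :=
    IsLocalization.isLocalization_isLocalization_atPrime_isLocalization
      (Algebra.algebraMapSubmonoid B m.primeCompl) (Localization.AtPrime Q.asIdeal) Q.asIdeal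
  have hqn : Q.asIdeal.comap (algebraMap B (Localization.AtPrime m ⊗[A] B)) = n :=
    congrArg PrimeSpectrum.asIdeal hQ2
  subst hqn
  haveI := hloc
  exact Groth.Agent.Helper2.StrictHensTransfer.isStrictlyHenselian_of_ringEquiv
    (IsLocalization.algEquiv
      (Ideal.comap (algebraMap B (Localization.AtPrime m ⊗[A] B)) Q.asIdeal).primeCompl
      (Localization.AtPrime (Ideal.comap (algebraMap B (Localization.AtPrime m ⊗[A] B)) Q.asIdeal))
      (Localization.AtPrime Q.asIdeal)).symm.toRingEquiv hT

end SH

end Groth.Agent.Lib.Helper6.ExtrDisc
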