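import Mathlib
import Groth.Prelude.Def_PBC
import Groth.Prelude.Def_ProEtW
import Groth.Prelude.Def_EtBase
import Groth.Agent.Lib.Helper6.ExtrDisc.ED2
import Groth.Agent.Lib.Helper9.FE.WLz2

/-!
# Finite algebras of finite presentation over w-contractible rings are w-contractible (helper6)
-/

set_option autoImplicit false
set_option linter.unusedSectionVars false
set_option linter.unusedVariables false
set_option linter.unusedSimpArgs false
set_option linter.style.haveILetI false
set_option maxHeartbeats 800000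
set_option synthInstance.maxHeartbeats 400000

universe u

open TensorProduct PrimeSpectrum Topology

namespace Groth.Agent.Lib.Helper6.ExtrDisc

section Pi0

variable (A B : Type u) [CommRing A] [CommRing B] [Algebra A B]

/-- A prime whose contraction along a surjection is maximal is maximal. -/
theorem isMaximal_of_comap_isMaximal {R S : Type*} [CommRing R] [CommRing S] (f : R →+* S)
    (hf : Function.Surjective f) (P : Ideal S) (hP : P ≠ ⊤) (h : (P.comap f).IsMaximal) :
    P.IsMaximal := by
  obtain ⟨N, hN, hPN⟩ := Ideal.exists_le_maximal P hP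
  have h1 : P.comap f = N.comap f :=
    h.eq_of_le (Ideal.comap_ne_top _ hN.ne_top) (Ideal.comap_mono hPN)
  have h2 : P = N := by
    rw [← Ideal.map_comap_of_surjective f hf P, h1, Ideal.map_comap_of_surjective f hf N]
  rw [h2]
  exact hN

theorem extrDisc_pi0_of_finite [Module.Finite A B] [Algebra.FinitePresentation A B]
    (hW : ProEtW.IsWLocal (PrimeSpectrum A)) (hWB : ProEtW.IsWLocal (PrimeSpectrum B))
    (hED : ExtremallyDisconnected (_root_.ConnectedComponents (PrimeSpectrum A)))
    (hSep : ∀ (m : Ideal A) [m.IsMaximal], IsSepClosed m.ResidueField) :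
    ExtremallyDisconnected (_root_.ConnectedComponents (PrimeSpectrum B)) := by
  obtain ⟨-, hI0⟩ := H9FE.WStr.ideal_of_closedPoints A hW
  obtain ⟨I, hI⟩ : ∃ I : Ideal A,
      I = PrimeSpectrum.vanishingIdeal (ProEtW.closedPoints (PrimeSpectrum A)) := ⟨_, rfl⟩
  rw [← hI] at hI0
  -- the spectrum of `A ⧸ I` is the set of closed points of `Spec A`
  have hembA := PrimeSpectrum.isClosedEmbedding_comap_of_surjective (A ⧸ I)
    (Ideal.Quotient.mk I) Ideal.Quotient.mk_surjective
  have hrangeA : Set.range (comap (Ideal.Quotient.mk I)) =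
      {x : PrimeSpectrum A | IsClosed ({x} : Set (PrimeSpectrum A))} := by
    rw [range_comap_of_surjective (A ⧸ I) (Ideal.Quotient.mk I) Ideal.Quotient.mk_surjective,
      Ideal.mk_ker, hI0]
    rfl
  have hmaxA : ∀ P : PrimeSpectrum (A ⧸ I), (P.asIdeal.comap (Ideal.Quotient.mk I)).IsMaximal := by
    intro P
    have h1 : comap (Ideal.Quotient.mk I) P ∈ Set.range (comap (Ideal.Quotient.mk I)) := ⟨P, rfl⟩
    rw [hrangeA] at h1
    exact (isClosed_singleton_iff_isMaximal _).mp h1
  have hAbmax : ∀ P : PrimeSpectrum (A ⧸ I), P.asIdeal.IsMaximal := fun P =>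
    isMaximal_of_comap_isMaximal (Ideal.Quotient.mk I) Ideal.Quotient.mk_surjective P.asIdeal
      P.2.ne_top (hmaxA P)
  haveI hT2 : T2Space (PrimeSpectrum (A ⧸ I)) := t2_of_all_maximal (A ⧸ I) hAbmax
  haveI := hED
  haveI hEDA : ExtremallyDisconnected (PrimeSpectrum (A ⧸ I)) :=
    H9FE.WStr.extremallyDisconnected_of_homeomorph
      ((hembA.isEmbedding.toHomeomorph.trans (Homeomorph.setCongr hrangeA)).trans
        (H9FE.WLz2.hcHomeo A hW))
  -- residue fields
  have hres : ∀ P : PrimeSpectrum (A ⧸ I), IsSepClosed P.asIdeal.ResidueField := by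
    intro P
    haveI hm := hmaxA P
    haveI hP := hAbmax P
    haveI := hSep (P.asIdeal.comap (Ideal.Quotient.mk I))
    have e₁ : (A ⧸ P.asIdeal.comap (Ideal.Quotient.mk I)) ≃+*
        (P.asIdeal.comap (Ideal.Quotient.mk I)).ResidueField :=
      RingEquiv.ofBijective _ (Ideal.bijective_algebraMap_quotient_residueField _)
    have e₂ : (A ⧸ P.asIdeal.comap (Ideal.Quotient.mk I)) ≃+* ((A ⧸ I) ⧸ P.asIdeal) :=
      RingEquiv.ofBijective (Ideal.quotientMap P.asIdeal (Ideal.Quotient.mk I) le_rfl)
        ⟨Ideal.quotientMap_injective' le_rfl,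
          Ideal.quotientMap_surjective Ideal.Quotient.mk_surjective⟩
    have e₃ : ((A ⧸ I) ⧸ P.asIdeal) ≃+* P.asIdeal.ResidueField :=
      RingEquiv.ofBijective _ (Ideal.bijective_algebraMap_quotient_residueField _)
    exact isSepClosed_of_ringEquiv (e₁.symm.trans (e₂.trans e₃))
  -- apply the theorem on quasi-finite algebras
  have hEDT : ExtremallyDisconnected (PrimeSpectrum ((A ⧸ I) ⊗[A] B)) :=
    main (A ⧸ I) ((A ⧸ I) ⊗[A] B) hres
  -- the spectrum of the base change is the set of closed points of `Spec B`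
  obtain ⟨f, hf⟩ : ∃ f : B →+* (A ⧸ I) ⊗[A] B,
      f = (Algebra.TensorProduct.includeRight (R := A) (A := A ⧸ I) (B := B)).toRingHom :=
    ⟨_, rfl⟩
  have hfsurj : Function.Surjective f := by
    rw [hf]
    exact Algebra.TensorProduct.includeRight_surjective (R := A) (S := A ⧸ I) B
      Ideal.Quotient.mk_surjective
  have hembB := PrimeSpectrum.isClosedEmbedding_comap_of_surjective ((A ⧸ I) ⊗[A] B) f hfsurj
  haveI : Algebra.IsIntegral A B := inferInstance
  have hrangeB : Set.range (comap f) =
      {x : PrimeSpectrum B | IsClosed ({x} : Set (PrimeSpectrum B))} := by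
    ext q
    constructor
    · rintro ⟨Q, rfl⟩
      show IsClosed ({comap f Q} : Set (PrimeSpectrum B))
      rw [isClosed_singleton_iff_isMaximal]
      apply Ideal.isMaximal_of_isIntegral_of_isMaximal_comap (R := A)
      have h1 : comap (algebraMap A B) (comap f Q) ∈
          {x : PrimeSpectrum A | IsClosed ({x} : Set (PrimeSpectrum A))} := by
        show comap (algebraMap A B) (comap f Q) ∈ ProEtW.closedPoints (PrimeSpectrum A)
        rw [← hI0, mem_zeroLocus]
        intro a ha
        show f (algebraMap A B a) ∈ Q.asIdeal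
        have h0 : f (algebraMap A B a) = 0 := by
          rw [hf]
          show (1 : A ⧸ I) ⊗ₜ[A] (algebraMap A B a) = 0
          rw [Algebra.algebraMap_eq_smul_one, ← TensorProduct.smul_tmul,
            ← Algebra.algebraMap_eq_smul_one]
          have h00 : algebraMap A (A ⧸ I) a = 0 := Ideal.Quotient.eq_zero_iff_mem.mpr ha
          rw [h00, TensorProduct.zero_tmul]
        rw [h0]
        exact Q.asIdeal.zero_mem
      exact (isClosed_singleton_iff_isMaximal _).mp h1
    · intro hq
      have hqmax : q.asIdeal.IsMaximal := (isClosed_singleton_iff_isMaximal _).mp hq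
      haveI := hqmax
      have hmmax : (q.asIdeal.comap (algebraMap A B)).IsMaximal :=
        Ideal.isMaximal_comap_of_isIntegral_of_isMaximal (R := A) q.asIdeal
      have h1 : comap (algebraMap A B) q ∈ Set.range (comap (Ideal.Quotient.mk I)) := by
        rw [hrangeA]
        exact (isClosed_singleton_iff_isMaximal _).mpr hmmax
      obtain ⟨mb, hmb⟩ := h1
      obtain ⟨Q, -, hQ2⟩ := H9FE.WStr.exists_prime_tensor A (A ⧸ I) B mb q hmb
      refine ⟨Q, ?_⟩
      rw [hf]
      exact hQ2
  have eB : PrimeSpectrum ((A ⧸ I) ⊗[A] B) ≃ₜ H9FE.WLz2.Xc B :=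
    hembB.isEmbedding.toHomeomorph.trans (Homeomorph.setCongr hrangeB)
  haveI : ExtremallyDisconnected (H9FE.WLz2.Xc B) :=
    H9FE.WStr.extremallyDisconnected_of_homeomorph eB.symm
  exact H9FE.WStr.extremallyDisconnected_of_homeomorph (H9FE.WLz2.hcHomeo B hWB).symm

end Pi0

theorem main679 (A B : Type u) [CommRing A] [CommRing B] [Algebra A B] [Module.Finite A B]
    [Algebra.FinitePresentation A B] (h : EtPBC.IsWContractible A) :
    EtPBC.IsWContractible B := by
  obtain ⟨hW, hED, hSH⟩ := (H9FE.WStr.main677 A).mp h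
  have hH : ∀ (m : Ideal A) [m.IsMaximal], HenselianLocalRing (Localization.AtPrime m) := by
    intro m _
    obtain ⟨h1, -⟩ := hSH m
    exact h1
  have hSep : ∀ (m : Ideal A) [m.IsMaximal], IsSepClosed m.ResidueField := by
    intro m _
    obtain ⟨h1, h2⟩ := hSH m
    exact h2
  haveI : Algebra.IsIntegral A B := inferInstance
  have hWB := isWLocal_of_integral A B hW hH
  exact H9FE.WStr.wContractible_of_conditions B hWB
    (extrDisc_pi0_of_finite A B hW hWB hED hSep)
    (fun n _ => strictlyHenselian_of_finite A B hSH n)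

end Groth.Agent.Lib.Helper6.ExtrDisc
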